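import Cfsg.Agent.Lib.SympGen.Basic

/-!
A criterion for a subgroup containing one transvection to be the whole symplectic group, fields with
more than two elements.
-/

set_option autoImplicit false

namespace Cfsg.Agent.Lib.SympRegGen

open Matrix
open Cfsg.Agent.Lib.LinGroup Cfsg.Agent.Lib.Forms Cfsg.Agent.Lib.SympGen

variable {F : Type*} [Field F] {m : ℕ}

local notation "V" => (Fin m ⊕ Fin m → F)
local notation "Sp" => (Matrix.symplecticGroup (Fin m) F)
local notation "B" => Cfsg.sympForm m F

/-- Every additive subgroup with `1` stable under the square of `γ` is everything. -/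
def SqGen (γ : F) : Prop := ∀ R : AddSubgroup F, 1 ∈ R → (∀ x ∈ R, γ ^ 2 * x ∈ R) → R = ⊤

theorem form_swap (x y : V) : B y x = -B x y := Forms.sympForm_comm y x

theorem form_ne_swap {x y : V} (h : B x y ≠ 0) : B y x ≠ 0 := by
  rw [form_swap]; exact neg_ne_zero.2 h

/-- Non-orthogonal members of `InX`. -/
def Link (L : Subgroup Sp) (x y : V) : Prop := InX L x ∧ InX L y ∧ B x y ≠ 0

/-- The members of `InX` connected with `e`. -/
def Conn (L : Subgroup Sp) (e x : V) : Prop := InX L x ∧ Relation.ReflTransGen (Link L) e x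

variable {L : Subgroup (Matrix.symplecticGroup (Fin m) F)}

theorem Link.symm {x y : V} (h : Link L x y) : Link L y x := ⟨h.2.1, h.1, form_ne_swap h.2.2⟩

theorem Conn.symmPath {e x : V} (hx : Conn L e x) : Relation.ReflTransGen (Link L) x e := by
  have h := hx.2
  induction h with
  | refl => exact .refl
  | tail hab hbc ih => exact (ih ⟨hbc.1, hab⟩).head hbc.symm

theorem Conn.step {e x y : V} (hx : Conn L e x) (hy : InX L y) (h : B x y ≠ 0) : Conn L e y :=
  ⟨hy, hx.2.tail ⟨hx.1, hy, h⟩⟩

theorem Conn.map {e x : V} {g : Sp} (hg : g ∈ L) (hx : Conn L e x) (hge : Conn L e (spVec g e)) :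
    Conn L e (spVec g x) := by
  refine ⟨hx.1.map hg, hge.2.trans ?_⟩
  exact Relation.ReflTransGen.lift (spVec g)
    (fun a b (hab : Link L a b) =>
      (⟨hab.1.map hg, hab.2.1.map hg, by rw [spVec_form]; exact hab.2.2⟩ : Link L (spVec g a) (spVec g b))) _ _ hx.2

/-- The criterion. -/
theorem eq_top_of_criterion (hq : ∀ s : F, ∃ t : F, t ≠ 0 ∧ t ≠ s) {e : V} (he : e ≠ 0) {c : F}
    (hc : c ≠ 0) (hT : sympTransElem e c ∈ L) {γ : F} (hγ : SqGen γ) {g : Sp} (hg : g ∈ L)
    (hge : spVec g e = γ • e) {u : Sp} (hu : u ∈ L) (hue : spVec u e = e) {w : Sp} (hw : w ∈ L)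
    (hwe : B e (spVec w e) ≠ 0)
    (hspan : ∀ W : Submodule F V, e ∈ W → (∀ x ∈ W, spVec u x ∈ W) → (∀ x ∈ W, spVec w x ∈ W) → W = ⊤) :
    L = ⊤ := by
  have heX : InX L e := by
    let R : AddSubgroup F :=
      { carrier := {x | sympTransElem e (c * x) ∈ L}
        zero_mem' := by simp [sympTransElem_zero]
        add_mem' := fun {x y} hx hy => by
          simp only [Set.mem_ofPred_eq, mul_add, ← sympTransElem_mul] at *
          exact L.mul_mem hx hy
        neg_mem' := fun {x} hx => by
          simp only [Set.mem_ofPred_eq, mul_neg, ← sympTransElem_inv] at *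
          exact L.inv_mem hx }
    have hR : R = ⊤ := hγ R (by show sympTransElem e (c * 1) ∈ L; rwa [mul_one]) fun x hx => by
      show sympTransElem e (c * (γ ^ 2 * x)) ∈ L
      rw [mul_left_comm, ← sympTransElem_smul, ← hge, ← sympTransElem_conj]
      exact L.mul_mem (L.mul_mem hg hx) (L.inv_mem hg)
    intro d
    have : d / c ∈ R := hR ▸ AddSubgroup.mem_top _
    have h' : sympTransElem e (c * (d / c)) ∈ L := this
    rwa [mul_div_cancel₀ _ hc] at h'
  have hE : Conn L e e := ⟨heX, .refl⟩
  have hU : ∀ x, Conn L e x → Conn L e (spVec u x) := fun x hx => hx.map hu (by rw [hue]; exact hE)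
  have hW : ∀ x, Conn L e x → Conn L e (spVec w x) := fun x hx =>
    hx.map hw (hE.step (heX.map hw) hwe)
  have hS : Submodule.span F {x | Conn L e x} = ⊤ := by
    refine hspan _ (Submodule.subset_span hE) ?_ ?_
    all_goals
      intro x hx
      induction hx using Submodule.span_induction with
      | mem x hx => first | exact Submodule.subset_span (hU x hx) | exact Submodule.subset_span (hW x hx)
      | zero => simp [spVec]
      | add x y _ _ ihx ihy => rw [spVec_add]; exact add_mem ihx ihy
      | smul a x _ ih => rw [spVec_smul]; exact Submodule.smul_mem _ a ih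
  have hsep : ∀ x : V, x ≠ 0 → ∃ r, Conn L e r ∧ B x r ≠ 0 := by
    intro x hx
    by_contra! h
    refine hx (funext fun i => ?_)
    have hall : ∀ y : V, B x y = 0 := by
      intro y
      have hy : y ∈ Submodule.span F {z | Conn L e z} := hS ▸ Submodule.mem_top
      induction hy using Submodule.span_induction with
      | mem y hy => exact h y hy
      | zero => rw [← Forms.sympBilin_apply, map_zero]
      | add a b _ _ iha ihb => rw [sympForm_add_right, iha, ihb, add_zero]
      | smul a y _ ih => rw [sympForm_smul_right, ih, mul_zero]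
    rcases i with i | i
    · simpa [form_fv] using hall (fv i)
    · simpa [form_ev] using hall (ev i)
  have hne : ∀ x, Conn L e x → x ≠ 0 := by
    intro x hx hx0
    rcases hx.2.cases_tail with h | ⟨b, -, hb⟩
    · exact he (h.symm.trans hx0)
    · exact hb.2.2 (by rw [hx0, ← Forms.sympBilin_apply, map_zero])
  -- any two are at distance at most two
  have hmid : ∀ x y, Conn L e x → Conn L e y →
      B x y ≠ 0 ∨ ∃ z, Conn L e z ∧ B x z ≠ 0 ∧ B z y ≠ 0 := by
    intro x y hx hy
    have hxy : Relation.ReflTransGen (Link L) x y :=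
      hx.symmPath.trans hy.2
    induction hxy with
    | refl =>
      obtain ⟨r, hr, hxr⟩ := hsep x (hne x hx)
      exact Or.inr ⟨r, hr, hxr, form_ne_swap hxr⟩
    | @tail b c hxb hbc ih =>
      have hb : Conn L e b := ⟨hbc.1, hx.2.trans hxb⟩
      rcases ih hb with h | ⟨z, hz, hxz, hzb⟩
      · exact Or.inr ⟨b, hb, h, hbc.2.2⟩
      · by_cases h1 : B x c = 0
        swap
        · exact Or.inl h1
        by_cases h2 : B z c = 0
        swap
        · exact Or.inr ⟨z, hz, hxz, h2⟩
        by_cases h3 : B x b = 0
        swap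
        · exact Or.inr ⟨b, hb, h3, hbc.2.2⟩
        have hzbX : InX L (z + b) := by simpa using hz.1.add_smul hb.1 hzb 1
        have h4 : B x (z + b) ≠ 0 := by rwa [sympForm_add_right, h3, add_zero]
        refine Or.inr ⟨z + b, hx.step hzbX h4, h4, ?_⟩
        rw [sympForm_add_left, h2, zero_add]
        exact hbc.2.2
  have hadj : ∀ x y (k : F), Conn L e x → InX L y → B x y ≠ 0 → Conn L e (x + k • y) := fun x y k hx hy h =>
    (hx.step hy h).step (hx.1.add_smul hy h k) (by
      rw [sympForm_add_right, sympForm_smul_right, Forms.sympForm_self, mul_zero, add_zero]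
      exact form_ne_swap h)
  have hsmul : ∀ x (a : F), a ≠ 0 → Conn L e x → Conn L e (a • x) := by
    intro x a ha hx
    obtain ⟨r, hr, hxr⟩ := hsep x (hne x hx)
    refine hr.step (hx.1.smul a) ?_
    rw [sympForm_smul_right]
    exact mul_ne_zero ha (form_ne_swap hxr)
  -- closure under addition
  have hadd : ∀ x y (k₁ : F), Conn L e x → Conn L e y → x + k₁ • y = 0 ∨ Conn L e (x + k₁ • y) := by
    intro x y k₁ hx hy
    by_cases hxy : B x y = 0
    swap
    · exact Or.inr (hadj x y k₁ hx hy.1 hxy)
    rcases hmid x y hx hy with h | ⟨z, hz, hxz, hzy⟩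
    · exact absurd hxy h
    have hgood : ∀ k : F, B z (x + k • y) ≠ 0 → Conn L e (x + k • y) := by
      intro k hk
      have h1 : Conn L e (x + z) := by simpa using hadj x z 1 hx hz.1 hxz
      have h1y : B (x + z) y ≠ 0 := by rwa [sympForm_add_left, hxy, zero_add]
      have h2 := hadj _ y k h1 hy.1 h1y
      have h3 : B (x + z + k • y) z ≠ 0 := by
        rw [show x + z + k • y = (x + k • y) + z by abel, sympForm_add_left, Forms.sympForm_self, add_zero]
        exact form_ne_swap hk
      have h4 := hadj _ z (-1) h2 hz.1 h3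
      rwa [show x + z + k • y + (-1 : F) • z = x + k • y by module] at h4
    by_cases h0 : B z (x + k₁ • y) = 0
    swap
    · exact Or.inr (hgood k₁ h0)
    by_cases hw0 : x + k₁ • y = 0
    · exact Or.inl hw0
    obtain ⟨r, hr, hwr⟩ := hsep _ hw0
    have hk₁ : k₁ ≠ 0 := by
      intro h
      rw [h, zero_smul, add_zero] at h0
      exact form_ne_swap hxz h0
    have hgood' : ∀ t : F, Conn L e (x + t • (x + k₁ • y)) := by
      intro t
      by_cases ht : 1 + t = 0
      · rw [show t = -1 by linear_combination ht,
          show x + (-1 : F) • (x + k₁ • y) = (-k₁) • y by module]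
        exact hsmul y _ (neg_ne_zero.2 hk₁) hy
      · have h1 : Conn L e (x + (t * k₁ / (1 + t)) • y) := by
          refine hgood _ fun h => hk₁ ?_
          rw [sympForm_add_right, sympForm_smul_right] at h h0
          have : (t * k₁ / (1 + t) - k₁) * B z y = 0 := by linear_combination h - h0
          rcases mul_eq_zero.1 this with h' | h'
          · field_simp at h'
            linear_combination -h'
          · exact absurd h' hzy
        have := hsmul _ (1 + t) ht h1
        rwa [smul_add, smul_smul, mul_div_cancel₀ _ ht,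
          show (1 + t) • x + (t * k₁) • y = x + t • (x + k₁ • y) by module] at this
    set w₁ : V := x + k₁ • y with hw₁
    obtain ⟨ν, hν0, hν1⟩ := hq (-B w₁ r)
    set t : F := (ν - B x r) / B w₁ r with ht
    have hv : B (x + t • w₁) r = ν := by
      rw [sympForm_add_left, sympForm_smul_left, ht, div_mul_cancel₀ _ hwr]; ring
    have hv' : B (x + (t + 1) • w₁) r ≠ 0 := by
      rw [add_smul, one_smul, ← add_assoc, sympForm_add_left, hv]
      exact fun h => hν1 (by linear_combination h)
    have h1 := hadj _ r 1 (hgood' t) hr.1 (by rw [hv]; exact hν0)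
    have h2 := hadj _ r 1 (hgood' (t + 1)) hr.1 hv'
    have hxw : B x w₁ = 0 := by
      rw [hw₁, sympForm_add_right, sympForm_smul_right, Forms.sympForm_self, hxy, mul_zero, add_zero]
    have hB : B (x + (t + 1) • w₁ + (1 : F) • r) (x + t • w₁ + (1 : F) • r) = B w₁ r := by
      have hwx : B w₁ x = 0 := by rw [form_swap, hxw, neg_zero]
      simp only [sympForm_add_left, sympForm_add_right, sympForm_smul_left, sympForm_smul_right,
        Forms.sympForm_self, hxw, hwx, form_swap w₁ r, form_swap x r]
      ring
    have h3 := hadj _ _ (-1) h2 h1.1 (by rw [hB]; exact hwr)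
    rw [show x + (t + 1) • w₁ + (1 : F) • r + (-1 : F) • (x + t • w₁ + (1 : F) • r) = w₁ by module] at h3
    exact Or.inr h3
  refine eq_top_of_inX fun v => ?_
  have hv : v ∈ Submodule.span F {x | Conn L e x} := hS ▸ Submodule.mem_top
  suffices v = 0 ∨ Conn L e v by
    rcases this with rfl | h
    · exact InX.zero
    · exact h.1
  induction hv using Submodule.span_induction with
  | mem x hx => exact Or.inr hx
  | zero => exact Or.inl rfl
  | add x y _ _ ihx ihy =>
    rcases ihx with rfl | hx
    · simpa using ihy
    rcases ihy with rfl | hy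
    · simpa using Or.inr (b := Conn L e x) hx
    · simpa using hadd x y 1 hx hy
  | smul a x _ ih =>
    rcases ih with rfl | hx
    · simp
    by_cases ha : a = 0
    · simp [ha]
    · exact Or.inr (hsmul x a ha hx)

end Cfsg.Agent.Lib.SympRegGen
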