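import Cfsg.Agent.Lib.SympRegGen.Conj
import Cfsg.Agent.Lib.SympRegGen.Criterion

/-!
The choice of the conjugates, fields with more than two elements.
-/

set_option autoImplicit false

namespace Cfsg.Agent.Lib.SympRegGen

open Matrix
open Cfsg.Agent.Lib.LinGroup Cfsg.Agent.Lib.Forms Cfsg.Agent.Lib.SympGen

variable {F : Type*} [Field F] {k : ℕ}

local notation "II" => (Fin (k + 2) ⊕ Fin (k + 2))
local notation "Sp" => (Matrix.symplecticGroup (Fin (k + 2)) F)
local notation "B" => Cfsg.sympForm (k + 2) F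
local notation "lastI" => (Fin.last (k + 1))

/-- A vector outside the span of two others fixed by the group. -/
theorem exists_fix_pair (p q x y : II → F) (hx : x ∉ Submodule.span F {p, q})
    (hy : y ∉ Submodule.span F {p, q}) (hp : B p x = B p y) (hq : B q x = B q y) :
    ∃ g : Sp, spVec g p = p ∧ spVec g q = q ∧ spVec g x = y := by
  obtain ⟨T, -, hfix, hT⟩ := Forms.exists_transvections_step hx hy (fun t ht => by
    obtain ⟨a, b, rfl⟩ := Submodule.mem_span_pair.1 ht
    simp only [sympForm_add_left, sympForm_smul_left, hp, hq])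
  exact ⟨T, hfix p (Submodule.subset_span (by simp)), hfix q (Submodule.subset_span (by simp)), hT⟩

/-- The second and third iterates of a cyclic vector are independent of the previous ones. -/
theorem not_mem_span_uni {a b : F} (ha : a ≠ 0) {z : II → F} (hz : z (.inr 0) ≠ 0) :
    spVec (uni a b) (spVec (uni a b) z) ∉ Submodule.span F {z, spVec (uni a b) z} := by
  intro h
  have hW := eq_top_of_cyclic (b := b) ha hz
    (Submodule.subset_span (show z ∈ ({z, spVec (uni a b) z} : Set (II → F)) by simp)) (fun x hx => by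
      obtain ⟨s, t, rfl⟩ := Submodule.mem_span_pair.1 hx
      rw [spVec_add, spVec_smul, spVec_smul]
      exact add_mem (Submodule.smul_mem _ _ (Submodule.subset_span (by simp))) (Submodule.smul_mem _ _ h))
  classical
  have h1 : (Submodule.span F ({z, spVec (uni a b) z} : Set (II → F))) =
      Submodule.span F (({z, spVec (uni a b) z} : Finset (II → F)) : Set (II → F)) := by simp
  have h2 := (finrank_span_finset_le_card (R := F) ({z, spVec (uni a b) z} : Finset (II → F))).trans
    (Finset.card_le_two)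
  rw [Set.finrank, ← h1, hW, finrank_top, Module.finrank_pi, Fintype.card_sum, Fintype.card_fin] at h2
  omega

/-- The engine of the construction. -/
theorem exists_third (hq : ∀ s : F, ∃ t : F, t ≠ 0 ∧ t ≠ s) {a b c γ : F} (ha : a ≠ 0) (hc : c ≠ 0)
    (hγ : γ ≠ 0) (hgen : SqGen γ) {z f : II → F} (hz : z (.inr 0) ≠ 0) (hf : f (.inr 0) = -1)
    (hm : B z (spVec (uni a b) z) ≠ 0)
    (hm2 : B z (spVec (uni a b) (spVec (uni a b) z)) = γ * B z (spVec (uni a b) z))
    (hcf : B f (spVec (uni a b) f) + c = (γ * B z (spVec (uni a b) z))⁻¹)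
    {g : Sp} (hg : g * uni a b * g⁻¹ = sympTransElem (ev 0) (-c) * uni a b) :
    ∃ h : Sp, Subgroup.closure ({uni a b, g * uni a b * g⁻¹, h * uni a b * h⁻¹} : Set Sp) = ⊤ := by
  set u : Sp := uni a b with hu
  set κ : F := B z (spVec u z) with hκ
  set e : II → F := ev 0 with he
  set x₃ : II → F := (γ * κ) • spVec (sympTransElem e c) (spVec u f) with hx₃
  have hue : spVec u e = e := uni_ev_zero a b
  have hfe : B f e = -1 := by rw [he, form_ev, hf]
  have hef : B e f = 1 := by rw [form_swap, hfe, neg_neg]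
  have hufe : B (spVec u f) e = -1 := by rw [← hue, spVec_form, hfe]
  have hz0 : z ≠ 0 := fun h => hz (by rw [h]; rfl)
  have he0 : e ≠ 0 := fun h => by simpa [he, ev] using congrFun h (.inl 0)
  obtain ⟨T1, hT1⟩ := exists_spVec_eq z e hz0 he0
  have hns : ∀ {p q : II → F}, B p q ≠ 0 → q ∉ Submodule.span F {p} := fun {p q} h hmem => by
    obtain ⟨s, rfl⟩ := Submodule.mem_span_singleton.1 hmem
    exact h (by rw [sympForm_smul_right, Forms.sympForm_self, mul_zero])
  have h1 : B e (spVec T1 (spVec u z)) = κ := by rw [← hT1, spVec_form]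
  have h1' : B e (κ • f) = κ := by rw [sympForm_smul_right, hef, mul_one]
  obtain ⟨T2, hT2e, hT2⟩ := exists_spVec_eq_fix e (spVec T1 (spVec u z)) (κ • f)
    (hns (by rw [h1]; exact hm)) (hns (by rw [h1']; exact hm)) (h1.trans h1'.symm)
  set w := spVec (T2 * T1) (spVec u (spVec u z)) with hw
  have hTz : spVec (T2 * T1) z = e := by rw [spVec_mul, hT1, hT2e]
  have hTuz : spVec (T2 * T1) (spVec u z) = κ • f := by rw [spVec_mul, hT2]
  have hwn : w ∉ Submodule.span F {e, κ • f} := by
    intro h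
    obtain ⟨s, t, hst⟩ := Submodule.mem_span_pair.1 h
    rw [hw, ← hTz, ← hTuz, ← spVec_smul, ← spVec_smul, ← spVec_add] at hst
    exact not_mem_span_uni ha hz (Submodule.mem_span_pair.2 ⟨s, t, spVec_injective _ hst⟩)
  have hx₃n : x₃ ∉ Submodule.span F {e, κ • f} := by
    intro h
    obtain ⟨s, t, hst⟩ := Submodule.mem_span_pair.1 h
    set i1 : Fin (k + 2) := ⟨1, by omega⟩
    have c0 := congrFun hst (.inr 0)
    have c1 := congrFun hst (.inr i1)
    simp only [hx₃, spVec_sympTransElem, Pi.add_apply, Pi.smul_apply, smul_eq_mul, hu, uni_inr,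
      lowMat_mulVec_zero, lowMat_mulVec_of_val _ (show (i1 : ℕ) = ((0 : Fin (k + 2)) : ℕ) + 1 from rfl),
      he, ev, hf] at c0 c1
    simp only [Pi.single_apply, reduceCtorEq, if_false, mul_zero, add_zero, zero_add] at c0 c1
    have : t * κ = γ * κ := by linear_combination -c0
    rw [← mul_assoc, this] at c1
    exact mul_ne_zero hγ hm (by linear_combination c1)
  have hp : B e w = B e x₃ := by
    rw [hw, ← hTz, spVec_form, hm2, hx₃, sympForm_smul_right, hTz, spVec_sympTransElem, sympForm_add_right,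
      sympForm_smul_right, Forms.sympForm_self, mul_zero, add_zero, form_swap _ e, hufe, neg_neg, mul_one]
  have hq' : B (κ • f) w = B (κ • f) x₃ := by
    rw [hw, ← hTuz, spVec_form, spVec_form, hTuz, hx₃, ← hκ]
    simp only [sympForm_smul_left, sympForm_smul_right, spVec_sympTransElem, sympForm_add_right, hfe, hufe]
    rw [show B f (spVec u f) = (γ * κ)⁻¹ - c by rw [← hcf]; ring]
    field_simp
    ring
  obtain ⟨T3, h3e, h3f, h3w⟩ := exists_fix_pair e (κ • f) w x₃ hwn hx₃n hp hq'
  set h : Sp := T3 * (T2 * T1) with hh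
  refine ⟨h, ?_⟩
  set L := Subgroup.closure ({u, g * u * g⁻¹, h * u * h⁻¹} : Set Sp) with hL
  have huL : u ∈ L := Subgroup.subset_closure (by simp)
  have hvL : h * u * h⁻¹ ∈ L := Subgroup.subset_closure (by simp)
  have hTL : sympTransElem e c ∈ L := by
    have h2 : g * u * g⁻¹ ∈ L := Subgroup.subset_closure (by simp)
    rw [hg] at h2
    have := L.mul_mem huL (L.inv_mem h2)
    rwa [_root_.mul_inv_rev, mul_inv_cancel_left, sympTransElem_inv, neg_neg] at this
  have hhz : spVec h z = e := by rw [hh, spVec_mul, hTz, h3e]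
  have hhuz : spVec h (spVec u z) = κ • f := by rw [hh, spVec_mul, hTuz, h3f]
  have hhu2z : spVec h (spVec u (spVec u z)) = x₃ := by rw [hh, spVec_mul, ← hw, h3w]
  have hv1 : spVec (h * u * h⁻¹) e = κ • f := by
    rw [← hhz, spVec_mul, spVec_inv_cancel', spVec_mul, hhuz]
  have hv2 : spVec (h * u * h⁻¹) (κ • f) = x₃ := by
    rw [← hhuz, spVec_mul, spVec_inv_cancel', spVec_mul, hhu2z]
  set v := h * u * h⁻¹ with hv
  refine eq_top_of_criterion hq he0 hc hTL hgen (g := (sympTransElem e c * u * v)⁻¹ * (v * v))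
    (L.mul_mem (L.inv_mem (L.mul_mem (L.mul_mem hTL huL) hvL)) (L.mul_mem hvL hvL)) ?_ huL hue hvL ?_ ?_
  · refine spVec_injective (sympTransElem e c * u * v) ?_
    rw [← spVec_mul, mul_inv_cancel_left, spVec_mul, hv1, hv2, spVec_smul, spVec_mul, spVec_mul, hv1,
      spVec_smul, spVec_smul, smul_smul]
  · rw [hv1, sympForm_smul_right, hef, mul_one]; exact hm
  · intro W heW _ hWv
    have hW' : ∀ x, spVec h x ∈ W := by
      have key : Submodule.comap (((h : Sp) : Matrix II II F).mulVecLin) W = ⊤ := by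
        refine eq_top_of_cyclic (b := b) ha hz (show spVec h z ∈ W by rwa [hhz]) fun x hx => ?_
        have := hWv _ (show spVec h x ∈ W from hx)
        rw [hv, spVec_mul, spVec_inv_cancel', spVec_mul] at this
        exact this
      intro x
      exact (key ▸ Submodule.mem_top : x ∈ Submodule.comap (((h : Sp) : Matrix II II F).mulVecLin) W)
    exact eq_top_iff.2 fun x _ => by simpa [spVec_inv_cancel] using hW' (spVec h⁻¹ x)

/-! ### The parameters -/

/-- A vector in the second Lagrangian. -/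
def dvec (δ : Fin (k + 2) → F) : II → F := Sum.elim 0 δ

theorem form_dvec (δ : Fin (k + 2) → F) (y : II → F) : B (dvec δ) y = ∑ i, δ i * y (.inl i) := by
  rw [sympForm_apply]
  exact Finset.sum_congr rfl fun i _ => by simp [dvec]

theorem dvec_inl_uni (a b : F) (δ : Fin (k + 2) → F) (i : Fin (k + 2)) :
    spVec (uni a b) (dvec δ) (.inl i) = (if i = lastI then a * (lowMat k F *ᵥ δ) lastI else 0) +
      (if i = 0 then b * δ 0 else 0) := by
  rw [uni_inl]
  simp only [dvec, Sum.elim_inl, Sum.elim_inr, Pi.zero_apply]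
  rw [show (fun _ : Fin (k + 2) => (0 : F)) = 0 from rfl, Matrix.mulVec_zero]
  simp

theorem form_dvec_uni (a b : F) (δ : Fin (k + 2) → F) :
    B (dvec δ) (spVec (uni a b) (dvec δ)) = a * (δ lastI * (lowMat k F *ᵥ δ) lastI) + b * δ 0 ^ 2 := by
  rw [form_dvec]
  simp [dvec_inl_uni, mul_add, Finset.sum_add_distrib]
  ring

theorem form_dvec_uni_uni (a b : F) (δ : Fin (k + 2) → F) :
    B (dvec δ) (spVec (uni a b) (spVec (uni a b) (dvec δ))) =
      a * ((lowMat k F *ᵥ δ) lastI * (∑ i, δ i * (-1) ^ ((i : ℕ) + (k + 1))) +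
        δ lastI * (lowMat k F *ᵥ (lowMat k F *ᵥ δ)) lastI) + 2 * (b * δ 0 ^ 2) := by
  rw [form_dvec]
  have e1 : (fun j => spVec (uni a b) (dvec δ) (.inl j)) =
      (a * (lowMat k F *ᵥ δ) lastI) • Pi.single lastI 1 + (b * δ 0) • Pi.single 0 1 := by
    funext j; simp [dvec_inl_uni, Pi.single_apply]
  have e2 : (fun j => spVec (uni a b) (dvec δ) (.inr j)) = lowMat k F *ᵥ δ := by
    funext j; rw [uni_inr]; rfl
  have e3 : spVec (uni a b) (dvec δ) (.inr 0) = δ 0 := by rw [congrFun e2 0, lowMat_mulVec_zero]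
  simp only [uni_inl a b (spVec (uni a b) (dvec δ)), e1, e2, e3, Matrix.mulVec_add, Matrix.mulVec_smul, Pi.add_apply,
    Pi.smul_apply, upMat_mulVec_single, Fin.le_last, if_true, Fin.val_last, Fin.le_zero_iff, smul_eq_mul,
    Fin.val_zero, Nat.add_zero, mul_add, Finset.sum_add_distrib, mul_ite, mul_zero, Finset.sum_ite_eq',
    Finset.mem_univ, pow_zero, mul_one, Finset.mul_sum]
  have h1 : ∀ i : Fin (k + 2), δ i * (a * (lowMat k F *ᵥ δ) lastI * (-1) ^ ((i : ℕ) + (k + 1))) =
      a * ((lowMat k F *ᵥ δ) lastI * (δ i * (-1) ^ ((i : ℕ) + (k + 1)))) := fun i => by ring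
  simp only [h1]
  ring

/-- The vector `-f_0 + r f_L`. -/
def rvec (r : F) : II → F := dvec (Pi.single 0 (-1) + Pi.single lastI r)

theorem rvec_inr (r : F) : (rvec r : II → F) (.inr 0) = -1 := by
  simp [rvec, dvec, Fin.ext_iff]

theorem form_rvec_three (hk : 1 ≤ k) (a b r : F) :
    B (rvec r) (spVec (uni a b) (rvec r)) = a * r ^ 2 + b := by
  have hp : ∀ j : Fin (k + 2), (j : ℕ) = k → (Pi.single 0 (-1) + Pi.single lastI r : Fin (k + 2) → F) j = 0 := by
    intro j hj
    have : j ≠ 0 ∧ j ≠ lastI := by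
      refine ⟨fun e => ?_, fun e => ?_⟩
      · rw [e, Fin.val_zero] at hj; omega
      · rw [e, Fin.val_last] at hj; omega
    simp [this.1, this.2]
  rw [rvec, form_dvec_uni, lowMat_mulVec_of_val _ (show (lastI : ℕ) = ((Fin.last k).castSucc : ℕ) + 1 by simp),
    hp (Fin.last k).castSucc (by simp)]
  simp only [Pi.add_apply, Pi.single_apply, show (lastI : Fin (k + 2)) ≠ 0 by simp [Fin.ext_iff],
    show (0 : Fin (k + 2)) ≠ lastI by simp [Fin.ext_iff], if_true, if_false]
  ring

theorem form_rvec_two (hk : k = 0) (a b r : F) :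
    B (rvec r) (spVec (uni a b) (rvec r)) = a * (r * (r - 1)) + b := by
  subst hk
  rw [rvec, form_dvec_uni, lowMat_mulVec_of_val _ (show ((Fin.last 1 : Fin 2) : ℕ) = ((0 : Fin 2) : ℕ) + 1 from rfl)]
  simp only [Pi.add_apply, Pi.single_apply, show (Fin.last (0 + 1) : Fin 2) ≠ 0 by decide,
    show (0 : Fin 2) ≠ Fin.last (0 + 1) by decide, show (Fin.last 1 : Fin 2) ≠ 0 by decide,
    show (0 : Fin 2) ≠ Fin.last 1 by decide, if_true, if_false]
  ring

end Cfsg.Agent.Lib.SympRegGen
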