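import Cfsg.Agent.Lib.SympRegGen.Unip

/-!
Conjugates of the regular unipotent element which differ from it by a transvection.
-/

set_option autoImplicit false

namespace Cfsg.Agent.Lib.SympRegGen

open Matrix
open Cfsg.Agent.Lib.LinGroup Cfsg.Agent.Lib.Forms Cfsg.Agent.Lib.SympGen

variable {F : Type*} [Field F] {k : ℕ}

local notation "II" => (Fin (k + 2) ⊕ Fin (k + 2))
local notation "Sp" => (Matrix.symplecticGroup (Fin (k + 2)) F)
local notation "B" => Cfsg.sympForm (k + 2) F
local notation "lastI" => (Fin.last (k + 1))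

theorem lowMat_mulVec_of_val (d : Fin (k + 2) → F) {i j : Fin (k + 2)} (h : (i : ℕ) = (j : ℕ) + 1) :
    (lowMat k F *ᵥ d) i = d i + d j := by
  obtain ⟨l, rfl⟩ := Fin.exists_succ_eq.2 (show i ≠ 0 from fun e => by simp [e] at h)
  rw [lowMat_mulVec_succ]
  congr 2
  exact Fin.ext (by simp at h ⊢; omega)

theorem form_ev_uni_zero (a b : F) (x : II → F) : B (spVec (uni a b) x) (ev 0) = B x (ev 0) := by
  rw [form_ev, form_ev, uni_inr, lowMat_mulVec_zero]

theorem form_ev_uni (a b : F) (x : II → F) {i j : Fin (k + 2)} (h : (i : ℕ) = (j : ℕ) + 1) :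
    B (spVec (uni a b) x) (ev i) = B x (ev i) + B x (ev j) := by
  rw [form_ev, form_ev, form_ev, uni_inr, lowMat_mulVec_of_val _ h]

theorem uni_ev_inl (a b : F) (i j : Fin (k + 2)) :
    spVec (uni a b) (ev j) (.inl i) = if i ≤ j then (-1) ^ ((i : ℕ) + (j : ℕ)) else 0 := by
  rw [uni_inl]
  have e1 : (fun l => (ev j : II → F) (.inl l)) = Pi.single j 1 := by
    funext l; simp [ev, Pi.single_apply]
  have e2 : (fun l => (ev j : II → F) (.inr l)) = 0 := by
    funext l; simp [ev]
  rw [e1, e2, upMat_mulVec_single, Matrix.mulVec_zero]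
  simp [ev]

theorem uni_ev_inr (a b : F) (i j : Fin (k + 2)) : spVec (uni a b) (ev j) (.inr i) = 0 := by
  rw [uni_inr, show (fun l => (ev j : II → F) (.inr l)) = 0 from funext fun l => by simp [ev],
    Matrix.mulVec_zero]
  rfl

theorem uni_ev_one (a b : F) {i : Fin (k + 2)} (hi : (i : ℕ) = 1) :
    spVec (uni a b) (ev i) = ev i - ev 0 := by
  funext x
  rcases x with l | l
  · rw [uni_ev_inl]
    simp only [ev, Pi.sub_apply, Pi.single_apply, Sum.inl.injEq, Fin.le_def, Fin.ext_iff, Fin.val_zero, hi]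
    rcases Nat.lt_trichotomy (l : ℕ) 1 with h | h | h
    · simp [Nat.lt_one_iff.1 h]
    · simp [h]
    · rw [if_neg (by omega), if_neg (by omega), if_neg (by omega), sub_zero]
  · rw [uni_ev_inr]; simp [ev]

theorem uni_ev_two (a b : F) {i j : Fin (k + 2)} (hi : (i : ℕ) = 2) (hj : (j : ℕ) = 1) :
    spVec (uni a b) (ev i) = ev i - ev j + ev 0 := by
  funext x
  rcases x with l | l
  · rw [uni_ev_inl]
    simp only [ev, Pi.add_apply, Pi.sub_apply, Pi.single_apply, Sum.inl.injEq, Fin.le_def, Fin.ext_iff,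
      Fin.val_zero, hi, hj]
    rcases Nat.lt_or_ge 2 (l : ℕ) with h | h
    · rw [if_neg (by omega), if_neg (by omega), if_neg (by omega), if_neg (by omega)]; ring
    · interval_cases (l : ℕ) <;> simp [pow_succ]
  · rw [uni_ev_inr]; simp [ev]

theorem uni_fv_last (a b : F) : spVec (uni a b) (fv lastI) = fv lastI + a • ev lastI := by
  funext x
  have e1 : (fun l => (fv lastI : II → F) (.inl l)) = 0 := by funext l; simp [fv]
  have e2 : (fun l => (fv lastI : II → F) (.inr l)) = Pi.single lastI 1 := by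
    funext l; simp [fv, Pi.single_apply]
  have hw : ∀ i, (lowMat k F *ᵥ Pi.single lastI 1) i = (Pi.single lastI (1 : F) : Fin (k + 2) → F) i := by
    intro i
    rw [Matrix.mulVec_single_one]
    simp only [Matrix.col_apply, lowMat, Matrix.of_apply, Pi.single_apply, Fin.val_last]
    rw [if_neg (show ¬ (i : ℕ) = k + 1 + 1 by omega), add_zero]
  rcases x with l | l
  · rw [uni_inl, e1, e2, Matrix.mulVec_zero, hw]
    simp [fv, ev, Pi.single_apply]
  · rw [uni_inr, e2, hw]
    simp [fv, ev, Pi.single_apply]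

theorem form_sub_left (x y v : II → F) : B (x - y) v = B x v - B y v := by
  simp only [← Forms.sympBilin_apply, map_sub, LinearMap.sub_apply]

theorem form_fv_ev {i j : Fin (k + 2)} (h : i ≠ j) : B (ev i : II → F) (fv j) = 0 := by
  rw [form_fv]; simp [ev, Ne.symm h]

theorem form_ev_ev (i j : Fin (k + 2)) : B (ev i : II → F) (ev j) = 0 := by
  rw [form_ev]; simp [ev]

/-- For `n ≥ 3` every transvection at `e_0` appears. -/
theorem exists_conj_three (hk : 1 ≤ k) (a b c : F) :
    ∃ g : Sp, g * uni a b * g⁻¹ = sympTransElem (ev 0) (-c) * uni a b := by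
  set i1 : Fin (k + 2) := ⟨1, by omega⟩ with hi1
  set i2 : Fin (k + 2) := ⟨2, by omega⟩ with hi2
  refine ⟨shortElem (ev 0) (ev i2) c * sympTransElem (ev i1) (-c), ?_⟩
  rw [mul_inv_eq_iff_eq_mul]
  refine spVec_ext fun x => ?_
  have h02 : B (ev 0 : II → F) (ev i2) = 0 := form_ev_ev _ _
  simp only [spVec_mul, spVec_shortElem h02, spVec_sympTransElem, spVec_add, spVec_smul, sympForm_add_left,
    sympForm_smul_left, form_sub_left, form_ev_ev, form_ev_uni_zero,
    form_ev_uni a b _ (show (i1 : ℕ) = ((0 : Fin (k + 2)) : ℕ) + 1 from rfl),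
    form_ev_uni a b _ (show (i2 : ℕ) = (i1 : ℕ) + 1 from rfl),
    uni_ev_zero, uni_ev_one a b (show (i1 : ℕ) = 1 from rfl),
    uni_ev_two a b (show (i2 : ℕ) = 2 from rfl) (show (i1 : ℕ) = 1 from rfl), smul_sub, smul_add]
  match_scalars <;> ring

/-- For `n = 2` all multiples by `2` appear. -/
theorem exists_conj_two (hk : k = 0) (a b t : F) :
    ∃ g : Sp, g * uni a b * g⁻¹ = sympTransElem (ev 0) (2 * t) * uni a b := by
  set i1 : Fin (k + 2) := ⟨1, by omega⟩ with hi1
  refine ⟨shortElem (ev 0) (ev i1) t, ?_⟩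
  rw [mul_inv_eq_iff_eq_mul]
  refine spVec_ext fun x => ?_
  have h01 : B (ev 0 : II → F) (ev i1) = 0 := form_ev_ev _ _
  simp only [spVec_mul, spVec_shortElem h01, spVec_sympTransElem, spVec_add, spVec_smul, sympForm_add_left,
    sympForm_smul_left, form_sub_left, form_ev_ev, form_ev_uni_zero,
    form_ev_uni a b _ (show (i1 : ℕ) = ((0 : Fin (k + 2)) : ℕ) + 1 from rfl),
    uni_ev_zero, uni_ev_one a b (show (i1 : ℕ) = 1 from rfl), smul_sub, smul_add]
  match_scalars <;> ring

/-- For `n = 2` a second family of conjugates. -/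
theorem exists_conj_two' (hk : k = 0) (a b s : F) :
    ∃ g : Sp, g * uni a b * g⁻¹ = sympTransElem (ev 0) (-(a * s * (1 + s))) * uni a b := by
  subst hk
  have hL : ((Fin.last 1 : Fin 2) : ℕ) = 1 := rfl
  refine ⟨shortElem (ev 0) (fv (Fin.last 1)) s * sympTransElem (ev (Fin.last 1)) (a * s), ?_⟩
  rw [mul_inv_eq_iff_eq_mul]
  refine spVec_ext fun x => ?_
  have h01 : Cfsg.sympForm 2 F (ev 0) (fv (Fin.last 1)) = 0 := form_fv_ev (k := 0) (by decide)
  have hfv : Cfsg.sympForm 2 F (spVec (uni a b) x) (fv (Fin.last 1)) =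
      Cfsg.sympForm 2 F x (fv (Fin.last 1)) -
        a * (Cfsg.sympForm 2 F x (ev (Fin.last 1)) + Cfsg.sympForm 2 F x (ev 0)) := by
    rw [form_fv, form_fv, form_ev, form_ev, uni_inl, upMat_mulVec_of_zero (fun j hj => absurd j.isLt (by omega)),
      lowMat_mulVec_of_val _ (show ((Fin.last 1 : Fin 2) : ℕ) = ((0 : Fin 2) : ℕ) + 1 from rfl)]
    simp
    ring
  have hef : Cfsg.sympForm 2 F (ev (Fin.last 1)) (fv (Fin.last 1)) = -1 := by rw [form_fv]; simp [ev]
  have hfe : Cfsg.sympForm 2 F (fv (Fin.last 1)) (ev 0) = 0 := by rw [form_ev]; simp [fv]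
  simp only [spVec_mul, spVec_shortElem h01, spVec_sympTransElem, spVec_add, spVec_smul, sympForm_add_left,
    sympForm_smul_left, form_sub_left, form_ev_ev, form_ev_uni_zero, hef, hfe,
    form_ev_uni a b _ (show ((Fin.last 1 : Fin 2) : ℕ) = ((0 : Fin 2) : ℕ) + 1 from rfl),
    uni_ev_zero, uni_ev_one a b hL, uni_fv_last, hfv, smul_sub, smul_add, smul_smul]
  match_scalars <;> ring

end Cfsg.Agent.Lib.SympRegGen
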