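import Cfsg.Agent.Lib.SympRegGen.Choice

/-!
Parameters for fields with more than two elements.
-/

set_option autoImplicit false

namespace Cfsg.Agent.Lib.SympRegGen

open Matrix
open Cfsg.Agent.Lib.LinGroup Cfsg.Agent.Lib.Forms Cfsg.Agent.Lib.SympGen

theorem exists_gamma {F : Type*} [Field F] [Finite F] (hF : 3 ≤ Nat.card F) :
    ∃ γ : F, γ ≠ 0 ∧ γ ≠ 2 ∧ ((2 : F) = 0 → γ ≠ 1) ∧ SqGen γ := by
  classical
  haveI := Fintype.ofFinite F
  by_cases hp : (Nat.card F).Prime
  · refine ⟨1, one_ne_zero, fun h => one_ne_zero (α := F) (by linear_combination -h), fun h _ => ?_, ?_⟩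
    · have h1 : addOrderOf (1 : F) ∣ 2 :=
        addOrderOf_dvd_of_nsmul_eq_zero (by rw [nsmul_eq_mul, Nat.cast_ofNat, mul_one]; exact h)
      rcases hp.eq_one_or_self_of_dvd _ (addOrderOf_dvd_natCard (1 : F)) with h' | h'
      · exact one_ne_zero (AddMonoid.addOrderOf_eq_one_iff.1 h')
      · rw [h'] at h1
        have := Nat.le_of_dvd (by norm_num) h1
        omega
    · intro R h1 _
      haveI : Fact (Nat.card F).Prime := ⟨hp⟩
      rcases R.eq_bot_or_eq_top_of_prime_card with h | h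
      · rw [h, AddSubgroup.mem_bot] at h1
        exact absurd h1 one_ne_zero
      · exact h
  obtain ⟨u, hu⟩ := IsCyclic.exists_generator (α := Fˣ)
  set γ : F := (u : F) with hγ
  have hpow : ∀ x : F, x ≠ 0 → ∃ j : ℕ, γ ^ j = x := by
    intro x hx
    have := mem_powers_iff_mem_zpowers.2 (hu (Units.mk0 x hx))
    obtain ⟨j, hj⟩ := this
    exact ⟨j, by simpa [Units.ext_iff] using hj⟩
  have hprime : γ ∉ AddSubgroup.zmultiples (1 : F) := by
    intro h
    apply hp
    have hall : AddSubgroup.zmultiples (1 : F) = ⊤ := by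
      refine eq_top_iff.2 fun x _ => ?_
      by_cases hx : x = 0
      · rw [hx]; exact zero_mem _
      obtain ⟨j, rfl⟩ := hpow x hx
      obtain ⟨m, hm⟩ := AddSubgroup.mem_zmultiples_iff.1 h
      exact AddSubgroup.mem_zmultiples_iff.2 ⟨m ^ j, by rw [← hm]; simp⟩
    have hc : Nat.card F = addOrderOf (1 : F) := by
      rw [← Nat.card_zmultiples, hall, AddSubgroup.card_top]
    rw [hc]
    haveI := CharP.addOrderOf_one F
    exact CharP.char_is_prime F (addOrderOf (1 : F))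
  have h1m : (1 : F) ∈ AddSubgroup.zmultiples (1 : F) := AddSubgroup.mem_zmultiples _
  refine ⟨γ, u.ne_zero, fun h => hprime ?_, fun _ h => hprime (h ▸ h1m), ?_⟩
  · rw [h, ← one_add_one_eq_two]; exact add_mem h1m h1m
  intro R h1 hR
  set S : Finset F := Finset.univ.filter (· ∈ R) with hS
  have hcov : (Finset.univ : Finset F) ⊆ S ∪ S.image (γ * ·) := by
    intro x _
    by_cases hx : x = 0
    · simp [hS, hx]
    have heven : ∀ i : ℕ, γ ^ (2 * i) ∈ R := by
      intro i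
      induction i with
      | zero => simpa using h1
      | succ i ih => rw [show γ ^ (2 * (i + 1)) = γ ^ 2 * γ ^ (2 * i) by ring]; exact hR _ ih
    obtain ⟨j, rfl⟩ := hpow x hx
    rcases Nat.even_or_odd' j with ⟨i, rfl | rfl⟩
    · simp [hS, heven]
    · refine Finset.mem_union_right _ (Finset.mem_image.2 ⟨γ ^ (2 * i), by simp [hS, heven], ?_⟩)
      ring
  have h0 : 0 < (S ∩ S.image (γ * ·)).card :=
    Finset.card_pos.2 ⟨0, Finset.mem_inter.2 ⟨by simp [hS], Finset.mem_image.2 ⟨0, by simp [hS], by simp⟩⟩⟩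
  have h2 := Finset.card_union_add_card_inter S (S.image (γ * ·))
  have h3 := Finset.card_le_card hcov
  have h4 : (S.image (γ * ·)).card ≤ S.card := Finset.card_image_le
  rw [Finset.card_univ, ← Nat.card_eq_fintype_card] at h3
  have hSR : Nat.card R = S.card := by
    rw [hS, ← Fintype.card_subtype, Nat.card_eq_fintype_card]
  obtain ⟨d, hd⟩ := AddSubgroup.card_addSubgroup_dvd_card R
  refine AddSubgroup.eq_top_of_card_eq R ?_
  rw [hSR] at hd ⊢
  have : d < 2 := by
    by_contra hd2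
    have : S.card * 2 ≤ S.card * d := Nat.mul_le_mul_left _ (by omega)
    omega
  interval_cases d <;> omega

variable {F : Type*} [Field F] {k : ℕ}

local notation "II" => (Fin (k + 2) ⊕ Fin (k + 2))
local notation "Sp" => (Matrix.symplecticGroup (Fin (k + 2)) F)
local notation "B" => Cfsg.sympForm (k + 2) F
local notation "lastI" => (Fin.last (k + 1))

theorem exists_dvec_three (hk : 1 ≤ k) (hq : ∀ s : F, ∃ t : F, t ≠ 0 ∧ t ≠ s) :
    ∃ δ : Fin (k + 2) → F, ∃ J D : F, δ 0 = 1 ∧ D ≠ 0 ∧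
      ∀ b : F, B (dvec δ) (spVec (uni (1 : F) b) (dvec δ)) = J + b ∧
        B (dvec δ) (spVec (uni (1 : F) b) (spVec (uni (1 : F) b) (dvec δ))) = D + 2 * (J + b) := by
  by_cases hk1 : k = 1
  · subst hk1
    obtain ⟨s, hs0, hs1⟩ := hq 1
    refine ⟨![1, s, 0], 0, s * (1 - s), rfl, mul_ne_zero hs0 (sub_ne_zero.2 (Ne.symm hs1)), fun b => ?_⟩
    have hl : (lowMat 1 F *ᵥ ![1, s, 0]) (Fin.last 2) = s := by
      rw [lowMat_mulVec_of_val _ (show ((Fin.last 2 : Fin 3) : ℕ) = ((1 : Fin 3) : ℕ) + 1 from rfl)]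
      exact zero_add s
    rw [form_dvec_uni, form_dvec_uni_uni, hl, show (![1, s, 0] : Fin 3 → F) (Fin.last (1 + 1)) = 0 from rfl,
      show (![1, s, 0] : Fin 3 → F) 0 = 1 from rfl, Fin.sum_univ_three]
    constructor <;> simp [-mul_eq_mul_left_iff, -mul_eq_mul_right_iff]
    ring
  refine ⟨Pi.single 0 1 + Pi.single lastI 1, 1, (-1) ^ (k + 1), ?_, pow_ne_zero _ (neg_ne_zero.2 one_ne_zero),
    fun b => ?_⟩
  · simp [Fin.ext_iff]
  set δ : Fin (k + 2) → F := Pi.single 0 1 + Pi.single lastI 1 with hδ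
  have h0 : δ 0 = 1 := by simp [hδ, Fin.ext_iff]
  have hL : δ lastI = 1 := by simp [hδ, Fin.ext_iff]
  have hmid : ∀ j : Fin (k + 2), (j : ℕ) ≠ 0 → (j : ℕ) ≠ k + 1 → δ j = 0 := by
    intro j h1 h2
    have h3 : j ≠ 0 := fun e => h1 (by rw [e, Fin.val_zero])
    have h4 : j ≠ lastI := fun e => h2 (by rw [e, Fin.val_last])
    simp [hδ, h3, h4]
  set j1 : Fin (k + 2) := ⟨k, by omega⟩ with hj1
  set j2 : Fin (k + 2) := ⟨k - 1, by omega⟩ with hj2
  have e1 : (lastI : ℕ) = (j1 : ℕ) + 1 := by simp [hj1]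
  have e2 : (j1 : ℕ) = (j2 : ℕ) + 1 := by simp [hj1, hj2]; omega
  have hl : (lowMat k F *ᵥ δ) lastI = 1 := by
    rw [lowMat_mulVec_of_val _ e1, hL, hmid j1 (by simp [hj1]; omega) (by simp [hj1]), add_zero]
  have hll : (lowMat k F *ᵥ (lowMat k F *ᵥ δ)) lastI = 1 := by
    rw [lowMat_mulVec_of_val _ e1, hl, lowMat_mulVec_of_val _ e2, hmid j1 (by simp [hj1]; omega) (by simp [hj1]),
      hmid j2 (by simp [hj2] <;> omega) (by simp [hj2] <;> omega), add_zero, add_zero]
  have hsum : (∑ i, δ i * (-1) ^ ((i : ℕ) + (k + 1))) = (-1) ^ (k + 1) + 1 := by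
    simp [hδ, add_mul, Finset.sum_add_distrib, Pi.single_apply, ← two_mul, pow_mul]
  rw [form_dvec_uni, form_dvec_uni_uni, hl, hll, hsum, h0, hL]
  constructor <;> ring

/-- Fields with more than two elements. -/
theorem exists_gens_big [Finite F] (hF : 3 ≤ Nat.card F) :
    ∃ a b : F, a ≠ 0 ∧ ∃ g h : Sp,
      Subgroup.closure ({uni a b, g * uni a b * g⁻¹, h * uni a b * h⁻¹} : Set Sp) = ⊤ := by
  classical
  haveI := Fintype.ofFinite F
  have hq : ∀ s : F, ∃ t : F, t ≠ 0 ∧ t ≠ s := by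
    intro s
    have : (({0, s} : Finset F)ᶜ).Nonempty := by
      rw [← Finset.card_pos, Finset.card_compl, ← Nat.card_eq_fintype_card]
      have := Finset.card_le_two (a := (0 : F)) (b := s)
      omega
    obtain ⟨t, ht⟩ := this
    simp only [Finset.mem_compl, Finset.mem_insert, Finset.mem_singleton, not_or] at ht
    exact ⟨t, ht.1, ht.2⟩
  obtain ⟨γ, hγ0, hγ2, hγ1, hgen⟩ := exists_gamma hF
  have hg2 : γ - 2 ≠ 0 := sub_ne_zero.2 hγ2
  -- the part common to all cases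
  have fin : ∀ (a : F), a ≠ 0 → ∀ (δ : Fin (k + 2) → F) (J D : F), δ 0 = 1 → D ≠ 0 →
      (∀ b : F, B (dvec δ) (spVec (uni a b) (dvec δ)) = J + b ∧
        B (dvec δ) (spVec (uni a b) (spVec (uni a b) (dvec δ))) = D + 2 * (J + b)) →
      ∀ r : F, (γ * (D / (γ - 2)))⁻¹ - B (rvec r) (spVec (uni a (D / (γ - 2) - J)) (rvec r)) ≠ 0 →
      (∃ g : Sp, g * uni a (D / (γ - 2) - J) * g⁻¹ = sympTransElem (ev 0)
        (-((γ * (D / (γ - 2)))⁻¹ - B (rvec r) (spVec (uni a (D / (γ - 2) - J)) (rvec r)))) *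
          uni a (D / (γ - 2) - J)) →
      ∃ a b : F, a ≠ 0 ∧ ∃ g h : Sp,
        Subgroup.closure ({uni a b, g * uni a b * g⁻¹, h * uni a b * h⁻¹} : Set Sp) = ⊤ := by
    intro a ha δ J D hδ hD hB r hc hg
    obtain ⟨g, hg⟩ := hg
    set b : F := D / (γ - 2) - J with hb
    have hm : B (dvec δ) (spVec (uni a b) (dvec δ)) = D / (γ - 2) := by rw [(hB b).1, hb]; ring
    obtain ⟨h, hh⟩ := exists_third (f := rvec r) (z := dvec δ) hq ha hc hγ0 hgen
      (by simp [dvec, hδ]) (rvec_inr r) (by rw [hm]; exact div_ne_zero hD hg2)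
      (by rw [hm, (hB b).2, hb]; field_simp; ring) (by rw [hm]; ring) hg
    exact ⟨a, b, ha, g, h, hh⟩
  by_cases hk : k = 0
  · have key : ∀ (a b : F), B (dvec (Pi.single 0 1)) (spVec (uni a b) (dvec (Pi.single 0 1))) = 0 + b ∧
        B (dvec (Pi.single 0 1)) (spVec (uni a b) (spVec (uni a b) (dvec (Pi.single 0 1)))) = -a + 2 * (0 + b) := by
      subst hk
      intro a b
      have hl : (lowMat 0 F *ᵥ Pi.single 0 1) (Fin.last 1) = 1 := by
        rw [lowMat_mulVec_of_val _ (show ((Fin.last 1 : Fin 2) : ℕ) = ((0 : Fin 2) : ℕ) + 1 from rfl)]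
        simp
      rw [form_dvec_uni, form_dvec_uni_uni, hl,
        show (Pi.single 0 1 : Fin 2 → F) (Fin.last (0 + 1)) = 0 from rfl, Fin.sum_univ_two]
      simp
    by_cases h2 : (2 : F) = 0
    · -- characteristic two
      have hg1 := hγ1 h2
      have hb : -γ / (γ - 2) - 0 = 1 := by
        rw [sub_zero, div_eq_iff hg2]
        linear_combination (1 - γ) * h2
      have hval : (γ * (-γ / (γ - 2)))⁻¹ - B (rvec 0) (spVec (uni γ (-γ / (γ - 2) - 0)) (rvec 0)) =
          γ * γ⁻¹ * (1 + γ⁻¹) := by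
        rw [form_rvec_two hk, hb, show -γ / (γ - 2) = 1 by rw [← hb, sub_zero]]
        field_simp
        linear_combination (-γ) * h2
      refine fin γ hγ0 (Pi.single 0 1) 0 (-γ) (by simp) (neg_ne_zero.2 hγ0) (key γ) 0 ?_ ?_
      · rw [hval, mul_inv_cancel₀ hγ0, one_mul]
        intro h
        refine hg1 ?_
        field_simp at h
        linear_combination h - h2
      · rw [hval]
        exact exists_conj_two' hk γ _ γ⁻¹
    · obtain ⟨r, hr⟩ : ∃ r : F, (γ * (-1 / (γ - 2)))⁻¹ -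
          B (rvec r) (spVec (uni 1 (-1 / (γ - 2) - 0)) (rvec r)) ≠ 0 := by
        by_contra! h
        have h0 := h 0
        have h1 := h (-1)
        simp only [form_rvec_two hk] at h0 h1
        exact h2 (by linear_combination h0 - h1)
      refine fin 1 one_ne_zero (Pi.single 0 1) 0 (-1) (by simp) (neg_ne_zero.2 one_ne_zero) (key 1) r hr ?_
      obtain ⟨g, hg⟩ := exists_conj_two hk 1 (-1 / (γ - 2) - 0)
        (-((γ * (-1 / (γ - 2)))⁻¹ - B (rvec r) (spVec (uni 1 (-1 / (γ - 2) - 0)) (rvec r))) / 2)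
      rw [mul_div_cancel₀ _ h2] at hg
      exact ⟨g, hg⟩
  · obtain ⟨δ, J, D, hδ, hD, hB⟩ := exists_dvec_three (F := F) (by omega : 1 ≤ k) hq
    obtain ⟨r, hr⟩ : ∃ r : F, (γ * (D / (γ - 2)))⁻¹ -
        B (rvec r) (spVec (uni 1 (D / (γ - 2) - J)) (rvec r)) ≠ 0 := by
      by_contra! h
      have h0 := h 0
      have h1 := h 1
      simp only [form_rvec_three (by omega : 1 ≤ k)] at h0 h1
      exact one_ne_zero (α := F) (by linear_combination h0 - h1)
    exact fin 1 one_ne_zero δ J D hδ hD hB r hr (exists_conj_three (by omega) _ _ _)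

end Cfsg.Agent.Lib.SympRegGen
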