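import Cfsg.Agent.Lib.SympRegGen.Conj

/-!
The field with two elements.
-/

set_option autoImplicit false

namespace Cfsg.Agent.Lib.SympRegGen

open Matrix
open Cfsg.Agent.Lib.LinGroup Cfsg.Agent.Lib.Forms Cfsg.Agent.Lib.SympGen

variable {F : Type*} [Field F] {k : ℕ}

local notation "II" => (Fin (k + 2) ⊕ Fin (k + 2))
local notation "Sp" => (Matrix.symplecticGroup (Fin (k + 2)) F)
local notation "B" => Cfsg.sympForm (k + 2) F
local notation "lastI" => (Fin.last (k + 1))

/-- The swap of the two Lagrangians. -/
def swapElem (k : ℕ) (F : Type*) [Field F] : Matrix.symplecticGroup (Fin (k + 2)) F :=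
  ⟨Matrix.J (Fin (k + 2)) F, SymplecticGroup.J_mem (Fin (k + 2)) F⟩

theorem swapElem_inl (x : II → F) (i : Fin (k + 2)) : spVec (swapElem k F) x (.inl i) = -x (.inr i) := by
  simp [spVec, swapElem, Matrix.J, Matrix.fromBlocks_mulVec, Matrix.neg_mulVec]

theorem swapElem_inr (x : II → F) (i : Fin (k + 2)) : spVec (swapElem k F) x (.inr i) = x (.inl i) := by
  simp [spVec, swapElem, Matrix.J, Matrix.fromBlocks_mulVec, Matrix.neg_mulVec]

theorem swapElem_inv_inl (x : II → F) (i : Fin (k + 2)) :
    spVec (swapElem k F)⁻¹ x (.inl i) = x (.inr i) := by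
  rw [← swapElem_inr (spVec (swapElem k F)⁻¹ x) i, spVec_inv_cancel]

theorem swapElem_inv_inr (x : II → F) (i : Fin (k + 2)) :
    spVec (swapElem k F)⁻¹ x (.inr i) = -x (.inl i) := by
  conv_rhs => rw [← spVec_inv_cancel (swapElem k F) x, swapElem_inl, neg_neg]

theorem lowMat_col (j i : Fin (k + 2)) :
    (lowMat k F *ᵥ Pi.single j 1) i =
      (if i = j then 1 else 0) + (if (i : ℕ) = (j : ℕ) + 1 then 1 else 0) := by
  simp [lowMat]

section Two

variable (h2 : (1 : F) + 1 = 0)
include h2

theorem neg_eq_two (x : F) : -x = x := by linear_combination -x * h2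

theorem uni_ev_two' (j : Fin (k + 2)) :
    spVec (uni (1 : F) 0) (ev j) = fun x => Sum.elim (fun i => if i ≤ j then 1 else 0) (fun _ => 0) x := by
  funext x
  rcases x with i | i
  · rw [uni_ev_inl, neg_eq_two h2 1, one_pow]; rfl
  · rw [uni_ev_inr]; rfl

/-- The third generator. -/
theorem conj_ev (j : Fin (k + 2)) :
    spVec (swapElem k F * uni (1 : F) 0 * (swapElem k F)⁻¹) (ev j) =
      fun x => Sum.elim (fun i => (lowMat k F *ᵥ Pi.single j 1) i)
        (fun i => if i = lastI then (lowMat k F *ᵥ Pi.single j 1) lastI else 0) x := by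
  funext x
  have e1 : (fun l => spVec (swapElem k F)⁻¹ (ev j : II → F) (.inl l)) = 0 := by
    funext l; rw [swapElem_inv_inl]; simp [ev]
  have e2 : (fun l => spVec (swapElem k F)⁻¹ (ev j : II → F) (.inr l)) = Pi.single j 1 := by
    funext l; rw [swapElem_inv_inr, neg_eq_two h2]; simp [ev, Pi.single_apply]
  rcases x with i | i
  · rw [spVec_mul, spVec_mul, swapElem_inl, neg_eq_two h2, uni_inr, e2]; rfl
  · rw [spVec_mul, spVec_mul, swapElem_inr, uni_inl, e1, e2, Matrix.mulVec_zero]
    simp

theorem conj_fv (j : Fin (k + 2)) :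
    spVec (swapElem k F * uni (1 : F) 0 * (swapElem k F)⁻¹) (fv j) =
      fun x => Sum.elim (fun _ => 0) (fun i => if i ≤ j then 1 else 0) x := by
  funext x
  have e1 : (fun l => spVec (swapElem k F)⁻¹ (fv j : II → F) (.inl l)) = Pi.single j 1 := by
    funext l; rw [swapElem_inv_inl]; simp [fv, Pi.single_apply]
  have e2 : (fun l => spVec (swapElem k F)⁻¹ (fv j : II → F) (.inr l)) = 0 := by
    funext l; rw [swapElem_inv_inr]; simp [fv]
  rcases x with i | i
  · rw [spVec_mul, spVec_mul, swapElem_inl, uni_inr, e2, Matrix.mulVec_zero]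
    simp
  · rw [spVec_mul, spVec_mul, swapElem_inr, uni_inl, e1, e2, upMat_mulVec_single, Matrix.mulVec_zero,
      neg_eq_two h2 1, one_pow]
    simp

theorem uni_fv_two (j : Fin (k + 2)) :
    spVec (uni (1 : F) 0) (fv j) = fun x => Sum.elim
      (fun i => if i = lastI then (lowMat k F *ᵥ Pi.single j 1) lastI else 0)
      (fun i => (lowMat k F *ᵥ Pi.single j 1) i) x := by
  funext x
  have e1 : (fun l => (fv j : II → F) (.inl l)) = 0 := by funext l; simp [fv]
  have e2 : (fun l => (fv j : II → F) (.inr l)) = Pi.single j 1 := by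
    funext l; simp [fv, Pi.single_apply]
  rcases x with i | i
  · rw [uni_inl, e1, e2, Matrix.mulVec_zero]
    simp
  · rw [uni_inr, e2]; rfl

/-- The generation over the field with two elements. -/
theorem eq_top_two (hall : ∀ x : F, x = 0 ∨ x = 1) {L : Subgroup Sp}
    (hT : sympTransElem (ev 0) (1 : F) ∈ L) (hu : uni (1 : F) 0 ∈ L)
    (hv : swapElem k F * uni (1 : F) 0 * (swapElem k F)⁻¹ ∈ L) : L = ⊤ := by
  have he0 : InX L (ev (0 : Fin (k + 2))) := fun c => by
    rcases hall c with rfl | rfl
    · rw [sympTransElem_zero]; exact L.one_mem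
    · exact hT
  have hadd : ∀ {x y : II → F}, InX L x → InX L y → B x y ≠ 0 → InX L (x + y) := fun hx hy h => by
    simpa using hx.add_smul hy h 1
  have cancel : ∀ (x y : II → F), x + y + y = x := fun x y => by
    funext i; simp only [Pi.add_apply]; linear_combination y i * h2
  -- the first kind, all but the last
  have he' : ∀ i : Fin (k + 2), (i : ℕ) < k + 1 → InX L (ev i) := by
    intro i
    induction i using Fin.induction with
    | zero => exact fun _ => he0
    | succ i ih =>
      intro hi
      rw [Fin.val_succ] at hi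
      have h := ((ih (by rw [Fin.val_castSucc]; omega)).map hv).map hu
      rw [conj_ev h2] at h
      convert h using 1
      rw [show (fun x => Sum.elim (fun l => (lowMat k F *ᵥ Pi.single i.castSucc 1) l)
          (fun l => if l = lastI then (lowMat k F *ᵥ Pi.single i.castSucc 1) lastI else 0) x) =
          ev i.castSucc + ev i.succ from ?_, spVec_add, uni_ev_two' h2, uni_ev_two' h2]
      · funext x
        rcases x with l | l <;>
          simp only [ev, Pi.add_apply, Sum.elim_inl, Sum.elim_inr, Pi.single_apply, Sum.inl.injEq, Fin.le_def,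
            Fin.ext_iff, Fin.val_succ, Fin.val_castSucc, reduceCtorEq, if_false, add_zero]
        split_ifs <;> first | omega | linear_combination -h2 | simp
      · funext x
        rcases x with l | l <;>
          simp only [ev, lowMat_col, Pi.add_apply, Sum.elim_inl, Sum.elim_inr, Pi.single_apply, Sum.inl.injEq,
            Fin.ext_iff, Fin.val_succ, Fin.val_castSucc, Fin.val_last, reduceCtorEq, if_false, add_zero]
        split_ifs <;> first | omega | simp
  set P : Fin (k + 2) := (Fin.last k).castSucc with hP
  have hPv : (P : ℕ) = k := by simp [hP]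
  -- the last plane
  have hvP : InX L (ev P + ev lastI + fv lastI) := by
    convert (he' P (by omega)).map hv using 1
    rw [conj_ev h2]
    funext x
    rcases x with l | l <;>
      simp only [ev, fv, lowMat_col, Pi.add_apply, Sum.elim_inl, Sum.elim_inr, Pi.single_apply, Sum.inl.injEq,
        Sum.inr.injEq, Fin.ext_iff, Fin.val_last, hPv, reduceCtorEq, if_false, add_zero, zero_add] <;>
      split_ifs <;> first | omega | simp
  have huL : spVec (uni (1 : F) 0) (fv lastI) = fv lastI + ev lastI := by rw [uni_fv_last, one_smul]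
  have hfL : InX L (fv lastI) := by
    convert hvP.map hu using 1
    rw [spVec_add, spVec_add, uni_ev_two' h2, uni_ev_two' h2, huL]
    funext x
    rcases x with l | l <;>
      simp only [ev, fv, Pi.add_apply, Sum.elim_inl, Sum.elim_inr, Pi.single_apply, Sum.inl.injEq,
        Sum.inr.injEq, Fin.le_def, Fin.ext_iff, Fin.val_last, hPv, reduceCtorEq, if_false, add_zero, zero_add]
    split_ifs <;> first | omega | linear_combination -h2 | simp
  have heL : InX L (ev lastI) := by
    have h := hadd (hfL.map hu) hfL (by rw [huL, sympForm_add_left, Forms.sympForm_self, form_fv]; simp [ev])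
    rw [huL, add_comm (fv lastI) (ev lastI), cancel] at h
    exact h
  have he : ∀ i : Fin (k + 2), InX L (ev i) := fun i => by
    by_cases hi : (i : ℕ) < k + 1
    · exact he' i hi
    · rw [show i = lastI from Fin.ext (by simp; omega)]; exact heL
  -- neighbours of the first kind
  have hp : ∀ i : Fin (k + 1), InX L (ev i.castSucc + ev i.succ) := by
    intro i
    by_cases hi : (i : ℕ) < k
    · convert (he i.castSucc).map hv using 1
      rw [conj_ev h2]
      funext x
      rcases x with l | l <;>
        simp only [ev, lowMat_col, Pi.add_apply, Sum.elim_inl, Sum.elim_inr, Pi.single_apply, Sum.inl.injEq,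
          Fin.ext_iff, Fin.val_succ, Fin.val_castSucc, Fin.val_last, reduceCtorEq, if_false, add_zero] <;>
        split_ifs <;> first | omega | simp
    · have e1 : i.castSucc = P := Fin.ext (by simp [hP]; omega)
      have e2 : i.succ = lastI := Fin.ext (by simp; omega)
      have h := hadd hvP hfL (by rw [form_fv]; simp [ev, fv, Pi.single_apply, Fin.ext_iff, hPv])
      rw [cancel] at h
      rw [e1, e2]
      exact h
  -- the second kind
  have hf0 : InX L (fv (0 : Fin (k + 2))) := by
    convert (hfL.map hv).map hu using 1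
    rw [conj_fv h2]
    funext x
    have e1 : (fun l => Sum.elim (fun _ => (0 : F)) (fun i => if i ≤ lastI then 1 else 0) (.inl l : II)) =
        (0 : Fin (k + 2) → F) := rfl
    have e2 : (fun l => Sum.elim (fun _ => (0 : F)) (fun i => if i ≤ lastI then 1 else 0) (.inr l : II)) =
        fun _ => 1 := funext fun l => by simp [Fin.le_last]
    have hone : ∀ i : Fin (k + 1), (lowMat k F *ᵥ fun _ => (1 : F)) i.succ = 0 := fun i => by
      rw [lowMat_mulVec_succ, h2]
    rcases x with l | l
    · rw [uni_inl, e1, e2, Matrix.mulVec_zero, show (lowMat k F *ᵥ fun _ => (1 : F)) lastI = 0 from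
        hone (Fin.last k)]
      simp [fv]
    · rw [uni_inr, e2]
      cases l using Fin.cases with
      | zero => simp [lowMat_mulVec_zero, fv]
      | succ l => simp [hone, fv, Fin.succ_ne_zero]
  have hf : ∀ i : Fin (k + 2), InX L (fv i) := by
    intro i
    induction i using Fin.induction with
    | zero => exact hf0
    | succ i ih =>
      by_cases hi : (i : ℕ) < k
      swap
      · rw [show i.succ = lastI from Fin.ext (by simp; omega)]; exact hfL
      have hne : i.castSucc ≠ i.succ := (Fin.castSucc_lt_succ (i := i)).ne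
      have h1 : InX L (ev i.castSucc + fv i.castSucc) := hadd (he _) ih (by rw [form_fv]; simp [ev])
      have hg : InX L (fv i.castSucc + fv i.succ) := by
        convert ih.map hu using 1
        rw [uni_fv_two h2]
        funext x
        rcases x with l | l <;>
          simp only [fv, lowMat_col, Pi.add_apply, Sum.elim_inl, Sum.elim_inr, Pi.single_apply, Sum.inr.injEq,
            Fin.ext_iff, Fin.val_succ, Fin.val_castSucc, Fin.val_last, reduceCtorEq, if_false, add_zero] <;>
          split_ifs <;> first | omega | simp
      have h2' : InX L (ev i.castSucc + fv i.succ) := by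
        have h := hadd h1 hg (by
          simp only [sympForm_add_left, sympForm_add_right, form_fv]
          simp [ev, fv, Pi.single_apply, hne, hne.symm])
        rw [show ev i.castSucc + fv i.castSucc + (fv i.castSucc + fv i.succ) =
          ev i.castSucc + fv i.succ + fv i.castSucc + fv i.castSucc by abel, cancel] at h
        exact h
      have h3 : InX L (ev i.succ + fv i.succ) := by
        have h := hadd h2' (hp i) (by
          simp only [sympForm_add_left, sympForm_add_right, form_ev]
          simp [ev, fv, Pi.single_apply, hne, hne.symm])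
        rw [show ev i.castSucc + fv i.succ + (ev i.castSucc + ev i.succ) =
          ev i.succ + fv i.succ + ev i.castSucc + ev i.castSucc by abel, cancel] at h
        exact h
      have h := hadd h3 (he i.succ) (by
        simp only [sympForm_add_left, form_ev]; simp [ev, fv])
      rw [show ev i.succ + fv i.succ + ev i.succ = fv i.succ + ev i.succ + ev i.succ by abel, cancel] at h
      exact h
  refine eq_top_of_planes he hf fun i j hij => ⟨ev i, ev j, ?_, ?_, ?_, ?_, ?_⟩
  · intro l hl; simpa [ev, Pi.single_apply] using hl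
  · intro l hl; simpa [ev, Pi.single_apply] using hl
  · exact fun h => by simpa [ev] using congrFun h (.inl i)
  · exact fun h => by simpa [ev] using congrFun h (.inl j)
  · have hik : (i : ℕ) < k + 1 := by omega
    have := hp ⟨i, hik⟩
    rwa [show (⟨i, hik⟩ : Fin (k + 1)).castSucc = i from rfl,
      show (⟨i, hik⟩ : Fin (k + 1)).succ = j from Fin.ext hij.symm] at this

end Two

/-- The field with two elements. -/
theorem exists_gens_two [Finite F] (hF : Nat.card F = 2) (hk : 1 ≤ k) :
    ∃ a b : F, a ≠ 0 ∧ ∃ g h : Sp,
      Subgroup.closure ({uni a b, g * uni a b * g⁻¹, h * uni a b * h⁻¹} : Set Sp) = ⊤ := by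
  haveI := Fintype.ofFinite F
  have hall : ∀ x : F, x = 0 ∨ x = 1 := fun x => by
    obtain ⟨y, -, hy⟩ := (Nat.card_eq_two_iff' (0 : F)).1 hF
    by_cases hx : x = 0
    · exact Or.inl hx
    · exact Or.inr ((hy x hx).trans (hy 1 one_ne_zero).symm)
  have h2 : (1 : F) + 1 = 0 := by
    rcases hall (1 + 1) with h | h
    · exact h
    · exact absurd (add_eq_left.1 h) one_ne_zero
  obtain ⟨g, hg⟩ := exists_conj_three hk (1 : F) 0 1
  refine ⟨1, 0, one_ne_zero, g, swapElem k F, ?_⟩
  set L := Subgroup.closure ({uni (1 : F) 0, g * uni (1 : F) 0 * g⁻¹,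
    swapElem k F * uni (1 : F) 0 * (swapElem k F)⁻¹} : Set Sp) with hL
  have hu : uni (1 : F) 0 ∈ L := Subgroup.subset_closure (by simp)
  refine eq_top_two h2 hall ?_ hu (Subgroup.subset_closure (by simp))
  have h : g * uni (1 : F) 0 * g⁻¹ ∈ L := Subgroup.subset_closure (by simp)
  rw [hg] at h
  have := L.mul_mem h (L.inv_mem hu)
  rwa [mul_inv_cancel_right, neg_eq_two h2] at this

end Cfsg.Agent.Lib.SympRegGen
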