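import Cfsg.Agent.Lib.SympGen.Basic

/-!
A regular unipotent element of the symplectic group, with two parameters.
-/

set_option autoImplicit false

namespace Cfsg.Agent.Lib.SympRegGen

open Matrix
open Cfsg.Agent.Lib.LinGroup Cfsg.Agent.Lib.Forms Cfsg.Agent.Lib.SympGen

variable {F : Type*} [Field F] {k : ℕ}

local notation "II" => (Fin (k + 2) ⊕ Fin (k + 2))
local notation "Sp" => (Matrix.symplecticGroup (Fin (k + 2)) F)
local notation "B" => Cfsg.sympForm (k + 2) F
local notation "lastI" => (Fin.last (k + 1))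

/-- The lower bidiagonal matrix. -/
def lowMat (k : ℕ) (F : Type*) [Field F] : Matrix (Fin (k + 2)) (Fin (k + 2)) F :=
  Matrix.of fun i j => (if i = j then 1 else 0) + (if (i : ℕ) = (j : ℕ) + 1 then 1 else 0)

/-- Its inverse transpose. -/
def upMat (k : ℕ) (F : Type*) [Field F] : Matrix (Fin (k + 2)) (Fin (k + 2)) F :=
  Matrix.of fun i j => if i ≤ j then (-1) ^ ((i : ℕ) + (j : ℕ)) else 0

theorem lowMat_mulVec_zero (d : Fin (k + 2) → F) : (lowMat k F *ᵥ d) 0 = d 0 := by
  simp [Matrix.mulVec, dotProduct, lowMat, add_mul, Finset.sum_add_distrib]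

theorem lowMat_mulVec_succ (d : Fin (k + 2) → F) (i : Fin (k + 1)) :
    (lowMat k F *ᵥ d) i.succ = d i.succ + d i.castSucc := by
  simp only [Matrix.mulVec, dotProduct, lowMat, Matrix.of_apply, add_mul, ite_mul, one_mul, zero_mul,
    Finset.sum_add_distrib, Finset.sum_ite_eq, Finset.mem_univ, if_true]
  congr 1
  rw [Finset.sum_eq_single i.castSucc]
  · simp
  · intro j _ hj
    rw [if_neg]
    intro h
    exact hj (Fin.ext (by simpa using h.symm))
  · simp

theorem upMat_mul_lowMat_transpose : upMat k F * (lowMat k F)ᵀ = 1 := by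
  ext i l
  have h : (upMat k F * (lowMat k F)ᵀ) i l = (lowMat k F *ᵥ fun j => upMat k F i j) l := by
    simp [Matrix.mul_apply, Matrix.mulVec, dotProduct, mul_comm]
  rw [h]
  cases l using Fin.cases with
  | zero =>
    rw [lowMat_mulVec_zero, Matrix.one_apply]
    by_cases hi : i = 0
    · simp [upMat, hi]
    · simp [upMat, hi]
  | succ l =>
    rw [lowMat_mulVec_succ, Matrix.one_apply]
    simp only [upMat, Matrix.of_apply, Fin.le_def, Fin.val_succ, Fin.val_castSucc, Fin.ext_iff]
    rcases lt_trichotomy (i : ℕ) ((l : ℕ) + 1) with h | h | h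
    · rw [if_pos h.le, if_pos (by omega), if_neg h.ne, ← Nat.add_assoc, pow_succ]
      ring
    · rw [if_pos h.le, if_neg (by omega), if_pos h, h, ← two_mul, pow_mul]
      simp
    · rw [if_neg (by omega), if_neg (by omega), if_neg (by omega), add_zero]

/-- The Levi factor of the regular unipotent element. -/
def leviElem (k : ℕ) (F : Type*) [Field F] : Matrix.symplecticGroup (Fin (k + 2)) F :=
  ⟨Matrix.fromBlocks (upMat k F) 0 0 (lowMat k F), by
    have h1 : upMat k F * (lowMat k F)ᵀ = 1 := upMat_mul_lowMat_transpose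
    have h2 : lowMat k F * (upMat k F)ᵀ = 1 := by
      simpa using congrArg Matrix.transpose h1
    rw [SymplecticGroup.mem_iff, Matrix.J, Matrix.fromBlocks_transpose, Matrix.fromBlocks_multiply,
      Matrix.fromBlocks_multiply]
    simp [h1, h2]⟩

theorem leviElem_inl (x : II → F) (i : Fin (k + 2)) :
    spVec (leviElem k F) x (.inl i) = (upMat k F *ᵥ fun j => x (.inl j)) i := by
  simp [spVec, leviElem, Matrix.fromBlocks_mulVec, Function.comp_def]

theorem leviElem_inr (x : II → F) (i : Fin (k + 2)) :
    spVec (leviElem k F) x (.inr i) = (lowMat k F *ᵥ fun j => x (.inr j)) i := by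
  simp [spVec, leviElem, Matrix.fromBlocks_mulVec, Function.comp_def]

/-- The regular unipotent element. -/
def uni (a b : F) : Sp :=
  sympTransElem (ev 0) b * sympTransElem (ev lastI) a * leviElem k F

theorem uni_inr (a b : F) (x : II → F) (i : Fin (k + 2)) :
    spVec (uni a b) x (.inr i) = (lowMat k F *ᵥ fun j => x (.inr j)) i := by
  simp [uni, spVec_mul, spVec_sympTransElem, leviElem_inr, ev]

theorem uni_inl (a b : F) (x : II → F) (i : Fin (k + 2)) :
    spVec (uni a b) x (.inl i) = (upMat k F *ᵥ fun j => x (.inl j)) i +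
      (if i = lastI then a * (lowMat k F *ᵥ fun j => x (.inr j)) lastI else 0) +
      (if i = 0 then b * x (.inr 0) else 0) := by
  simp only [uni, spVec_mul, spVec_sympTransElem, form_ev, Pi.add_apply, Pi.smul_apply, smul_eq_mul,
    leviElem_inl, leviElem_inr, lowMat_mulVec_zero]
  simp [ev, Pi.single_apply, leviElem_inr, lowMat_mulVec_zero]

theorem upMat_mulVec_single (j i : Fin (k + 2)) :
    (upMat k F *ᵥ Pi.single j 1) i = if i ≤ j then (-1) ^ ((i : ℕ) + (j : ℕ)) else 0 := by
  simp [upMat]

theorem upMat_mulVec_of_zero {y : Fin (k + 2) → F} {i : Fin (k + 2)}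
    (h : ∀ j : Fin (k + 2), (i : ℕ) < (j : ℕ) → y j = 0) : (upMat k F *ᵥ y) i = y i := by
  simp only [Matrix.mulVec, dotProduct, upMat, Matrix.of_apply]
  rw [Finset.sum_eq_single i]
  · simp [← two_mul, pow_mul]
  · intro j _ hj
    by_cases hle : i ≤ j
    · rw [h j (lt_of_le_of_ne hle (fun e => hj (Fin.ext e.symm))), mul_zero]
    · rw [if_neg hle, zero_mul]
  · simp

theorem upMat_mulVec_castSucc {y : Fin (k + 2) → F} {i : Fin (k + 1)}
    (h : ∀ j : Fin (k + 2), (i : ℕ) + 1 < (j : ℕ) → y j = 0) :
    (upMat k F *ᵥ y) i.castSucc = y i.castSucc - y i.succ := by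
  simp only [Matrix.mulVec, dotProduct, upMat, Matrix.of_apply]
  rw [← Finset.sum_subset (Finset.subset_univ {i.castSucc, i.succ})]
  · rw [Finset.sum_pair (Fin.castSucc_lt_succ (i := i)).ne]
    simp [Fin.le_def, ← two_mul, pow_mul, ← Nat.add_assoc, pow_succ]
    ring
  · intro j _ hj
    simp only [Finset.mem_insert, Finset.mem_singleton, Fin.ext_iff, Fin.val_castSucc, Fin.val_succ,
      not_or] at hj
    by_cases hle : (i.castSucc : Fin (k + 2)) ≤ j
    · have : (i : ℕ) ≤ (j : ℕ) := hle
      rw [h j (by omega), mul_zero]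
    · rw [if_neg hle, zero_mul]

theorem uni_ev_zero (a b : F) : spVec (uni a b) (ev (0 : Fin (k + 2))) = ev 0 := by
  funext x
  rcases x with i | i
  · rw [uni_inl]
    have e1 : (fun j => (ev (0 : Fin (k + 2)) : II → F) (.inl j)) = Pi.single 0 1 := by
      funext j; simp [ev, Pi.single_apply]
    have e2 : (fun j => (ev (0 : Fin (k + 2)) : II → F) (.inr j)) = 0 := by
      funext j; simp [ev]
    rw [e1, e2, upMat_mulVec_single, Matrix.mulVec_zero]
    cases i using Fin.cases with
    | zero => simp [ev]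
    | succ i => simp [ev, Fin.le_def]
  · rw [uni_inr]
    have e2 : (fun j => (ev (0 : Fin (k + 2)) : II → F) (.inr j)) = 0 := by
      funext j; simp [ev]
    rw [e2, Matrix.mulVec_zero]
    simp [ev]

/-! ### The flag -/

/-- The position of a coordinate in the flag. -/
def posI : II → ℕ := Sum.elim (fun i => 2 * k + 3 - (i : ℕ)) (fun i => (i : ℕ))

theorem posI_lt (x : II) : posI x < 2 * k + 4 := by
  rcases x with i | i <;> simp only [posI, Sum.elim_inl, Sum.elim_inr] <;> omega

theorem posI_injective : Function.Injective (posI (k := k)) := by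
  rintro (i | i) (j | j) h <;> simp only [posI, Sum.elim_inl, Sum.elim_inr] at h
  · exact congrArg Sum.inl (Fin.ext (by omega))
  · omega
  · omega
  · exact congrArg Sum.inr (Fin.ext (by omega))

theorem exists_pos {p : ℕ} (hp : p < 2 * k + 4) : ∃ x : II, posI x = p := by
  by_cases h : p < k + 2
  · exact ⟨.inr ⟨p, h⟩, rfl⟩
  · exact ⟨.inl ⟨2 * k + 3 - p, by omega⟩, by simp only [posI, Sum.elim_inl]; omega⟩

/-- The members of the flag. -/
def flagAt (p : ℕ) : Submodule F (II → F) where
  carrier := {x | ∀ y, posI y < p → x y = 0}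
  zero_mem' := fun _ _ => rfl
  add_mem' hx hy y h := by rw [Pi.add_apply, hx y h, hy y h, add_zero]
  smul_mem' c x hx y h := by rw [Pi.smul_apply, hx y h, smul_zero]

theorem mem_flagAt {p : ℕ} {x : II → F} : x ∈ flagAt p ↔ ∀ y, posI y < p → x y = 0 := Iff.rfl

theorem flagAt_top : flagAt (2 * k + 4) = (⊥ : Submodule F (II → F)) :=
  eq_bot_iff.2 fun x hx => by
    rw [Submodule.mem_bot]
    funext y
    exact hx y (posI_lt y)

/-- `u - 1`. -/
def difMap (a b : F) : (II → F) →ₗ[F] (II → F) :=
  ((uni a b : Sp) : Matrix II II F).mulVecLin - LinearMap.id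

theorem difMap_apply (a b : F) (x : II → F) : difMap a b x = spVec (uni a b) x - x := rfl

theorem difMap_step {a b : F} (ha : a ≠ 0) {p : ℕ} {x : II → F} (hx : x ∈ flagAt p) :
    difMap a b x ∈ flagAt (p + 1) ∧
      ∀ y y', posI y = p → posI y' = p + 1 → x y ≠ 0 → difMap a b x y' ≠ 0 := by
  have hR0 : difMap a b x (.inr 0) = 0 := by
    rw [difMap_apply, Pi.sub_apply, uni_inr, lowMat_mulVec_zero, sub_self]
  have hR : ∀ i : Fin (k + 1), difMap a b x (.inr i.succ) = x (.inr i.castSucc) := fun i => by
    rw [difMap_apply, Pi.sub_apply, uni_inr, lowMat_mulVec_succ]; ring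
  have hL : ∀ i : Fin (k + 1), posI (Sum.inl i.castSucc : II) ≤ p + 1 →
      difMap a b x (.inl i.castSucc) = -x (.inl i.succ) := fun i hi => by
    simp only [posI, Sum.elim_inl, Fin.val_castSucc] at hi
    have h0 : x (.inr 0) = 0 := hx _ (by simp [posI]; omega)
    rw [difMap_apply, Pi.sub_apply, uni_inl, upMat_mulVec_castSucc fun j hj => hx _ (by
      simp only [posI, Sum.elim_inl]; omega),
      if_neg (Fin.castSucc_lt_last i).ne, h0]
    simp
  have hLast : posI (Sum.inl lastI : II) ≤ p + 1 →
      difMap a b x (.inl lastI) = a * x (.inr lastI) := fun hi => by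
    simp only [posI, Sum.elim_inl, Fin.val_last] at hi
    rw [difMap_apply, Pi.sub_apply, uni_inl, upMat_mulVec_of_zero fun j hj => absurd j.isLt (by
      simp only [Fin.val_last] at hj; omega)]
    have hsucc : lastI = (Fin.last k).succ := rfl
    rw [if_pos rfl, if_neg (by simp [Fin.ext_iff])]
    conv_lhs => rw [hsucc, lowMat_mulVec_succ]
    have : x (.inr (Fin.last k).castSucc) = 0 := hx _ (by simp [posI]; omega)
    rw [this, ← hsucc]
    ring
  refine ⟨fun y hy => ?_, fun y y' hy hy' hne => ?_⟩
  · rcases y with i | i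
    · cases i using Fin.lastCases with
      | last =>
        rw [hLast hy.le]
        rw [hx (.inr lastI) (by simp [posI] at hy ⊢; omega), mul_zero]
      | cast i =>
        rw [hL i hy.le, hx (.inl i.succ) (by simp [posI] at hy ⊢; omega), neg_zero]
    · cases i using Fin.cases with
      | zero => exact hR0
      | succ i => rw [hR, hx (.inr i.castSucc) (by simp [posI] at hy ⊢; omega)]
  · rcases y' with i | i
    · cases i using Fin.lastCases with
      | last =>
        rw [hLast hy'.le]
        have : y = .inr lastI := posI_injective (by simp [posI] at hy' ⊢; simp [posI] at hy; omega)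
        exact mul_ne_zero ha (this ▸ hne)
      | cast i =>
        rw [hL i hy'.le]
        have : y = .inl i.succ := posI_injective (by rw [hy]; simp [posI] at hy' ⊢; omega)
        exact neg_ne_zero.2 (this ▸ hne)
    · cases i using Fin.cases with
      | zero => simp [posI] at hy'
      | succ i =>
        rw [hR]
        have : y = .inr i.castSucc := posI_injective (by rw [hy]; simp [posI] at hy' ⊢; omega)
        exact this ▸ hne

theorem pow_mem_flag {a b : F} (ha : a ≠ 0) : ∀ (j : ℕ) {x : II → F} {p : ℕ}, x ∈ flagAt p →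
    (difMap a b ^ j) x ∈ flagAt (p + j)
  | 0, x, p, hx => by simpa using hx
  | j + 1, x, p, hx => by
    rw [pow_succ']
    exact (difMap_step ha (pow_mem_flag ha j hx)).1

theorem pow_ne {a b : F} (ha : a ≠ 0) {z : II → F} (hz : z (.inr 0) ≠ 0) :
    ∀ j, j < 2 * k + 4 → ∀ y, posI y = j → (difMap a b ^ j) z y ≠ 0
  | 0, _, y, hy => by
    obtain rfl : y = .inr 0 := posI_injective (by rw [hy]; rfl)
    simpa using hz
  | j + 1, hj, y, hy => by
    obtain ⟨y0, hy0⟩ := exists_pos (k := k) (p := j) (by omega)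
    rw [pow_succ']
    have hm : (difMap a b ^ j) z ∈ flagAt j := by
      simpa using pow_mem_flag (b := b) ha j (x := z) (p := 0) (fun y h => absurd h (Nat.not_lt_zero _))
    exact (difMap_step ha hm).2 y0 y hy0 hy (pow_ne ha hz j (by omega) y0 hy0)

/-- `z` with nonzero first coordinate is cyclic. -/
theorem eq_top_of_cyclic {a b : F} (ha : a ≠ 0) {z : II → F} (hz : z (.inr 0) ≠ 0)
    {W : Submodule F (II → F)} (hzW : z ∈ W) (hW : ∀ x ∈ W, spVec (uni a b) x ∈ W) : W = ⊤ := by
  have hM : ∀ j, (difMap a b ^ j) z ∈ W := fun j => by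
    induction j with
    | zero => simpa using hzW
    | succ j ih =>
      rw [pow_succ']
      exact W.sub_mem (hW _ ih) ih
  have key : ∀ j p, p + j = 2 * k + 4 → flagAt p ≤ W := by
    intro j
    induction j with
    | zero => intro p hp; rw [show p = 2 * k + 4 by omega, flagAt_top]; exact bot_le
    | succ j ih =>
      intro p hp x hx
      obtain ⟨y, hy⟩ := exists_pos (k := k) (p := p) (by omega)
      set w := (difMap a b ^ p) z
      have hwy : w y ≠ 0 := pow_ne ha hz p (by omega) y hy
      have hwf : w ∈ flagAt p := by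
        simpa using pow_mem_flag (b := b) ha p (x := z) (p := 0) (fun y h => absurd h (Nat.not_lt_zero _))
      have : x - (x y / w y) • w ∈ flagAt (p + 1) := fun y' hy' => by
        rcases Nat.lt_succ_iff_lt_or_eq.1 hy' with h | h
        · simp [hx y' h, hwf y' h]
        · obtain rfl : y' = y := posI_injective (h.trans hy.symm)
          simp [hwy]
      have := ih (p + 1) (by omega) this
      have := W.add_mem this (W.smul_mem (x y / w y) (hM p))
      rwa [sub_add_cancel] at this
  exact eq_top_iff.2 fun x _ => key _ 0 (Nat.zero_add _) fun y h => absurd h (Nat.not_lt_zero _)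

theorem difMap_toLin (a b : F) :
    difMap a b = Matrix.toLinAlgEquiv' (((uni a b : Sp) : Matrix II II F) - 1) := by
  rw [map_sub, map_one]
  rfl

theorem isNilpotent_uni {a b : F} (ha : a ≠ 0) :
    IsNilpotent (((uni a b : Sp) : Matrix II II F) - 1) := by
  refine ⟨2 * k + 4, (Matrix.toLinAlgEquiv' (R := F) (n := II)).injective ?_⟩
  rw [map_pow, ← difMap_toLin, map_zero]
  refine LinearMap.ext fun x => ?_
  have := pow_mem_flag (b := b) ha (2 * k + 4) (x := x) (p := 0) (fun y h => absurd h (Nat.not_lt_zero _))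
  rw [Nat.zero_add, flagAt_top, Submodule.mem_bot] at this
  exact this

theorem pow_uni_ne {a b : F} (ha : a ≠ 0) :
    (((uni a b : Sp) : Matrix II II F) - 1) ^ (2 * (k + 2) - 1) ≠ 0 := by
  intro h
  have h' : (difMap a b : (II → F) →ₗ[F] II → F) ^ (2 * k + 3) = 0 := by
    rw [difMap_toLin, ← map_pow, show 2 * k + 3 = 2 * (k + 2) - 1 by omega, h, map_zero]
  refine pow_ne (b := b) (z := (fv (0 : Fin (k + 2)) : II → F)) ha (by simp [fv]) (2 * k + 3) (by omega) (.inl 0)
    (by simp [posI]) ?_
  rw [h']; rfl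

end Cfsg.Agent.Lib.SympRegGen
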